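import Cfsg.Agent.R2.DZ.Tools
import Cfsg.Agent.H431.ExcChar
import Cfsg.Agent.OddOrderCharacters.PivotCoherence
import Cfsg.Agent.S4425

/-!
# S4527: large families of irreducible characters agreeing on the `p`-singular elements (helper19)

* `family` : `χ i`, `i ∈ ι`, different irreducible characters of `G` which agree on the `p`-singular elements: if
  `|ι| > |G|_p / χ(1)_p` then the `χ i` have `p`-defect zero.
* `hasDZ_of_family` : the form with divisibility.
-/

set_option autoImplicit false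

open scoped ComplexConjugate
open Cfsg

namespace Cfsg.Agent.R2.DZ

open Cfsg.Agent.H665.NoPQ Cfsg.Agent.Characters.Core

/-- **Large families of irreducible characters agreeing on the `p`-singular elements have `p`-defect zero.** -/
theorem family {p : ℕ} [hp : Fact p.Prime] {G : Type*} [Group G] [Finite G] {ι : Type*} [Fintype ι]
    {χ : ι → G → ℂ} (hχ : ∀ i, IsIrrCharacter G (χ i)) (hinj : Function.Injective χ)
    (hres : ∀ i j g, p ∣ orderOf g → χ i g = χ j g) (i₀ : ι)
    (hcard : p ^ ((Nat.card G).factorization p - (charDegree (χ i₀)).factorization p) < Fintype.card ι) :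
    (charDegree (χ i₀)).factorization p = (Nat.card G).factorization p := by
  classical
  have := Fintype.ofFinite G
  set d : ℕ := (Nat.card G).factorization p - (charDegree (χ i₀)).factorization p with hd
  -- the generalized character
  let F : G → ℂ := fun x => if p ∣ orderOf x then ((p ^ d : ℕ) : ℂ) * χ i₀ x else 0
  have hF : IsGeneralizedCharacter G F := by
    have h1 := (Cfsg.Agent.S4425.result p ⟨χ i₀, hχ i₀⟩).1
    obtain ⟨a, b, ha, hb, hab⟩ := h1
    refine ⟨(p ^ d) • χ i₀ + b, a, isCharacter_add (isCharacter_nsmul (p ^ d) (isIrr_isCharacter (hχ i₀))) hb, ha, ?_⟩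
    funext x
    have h2 := congrFun hab x
    have h3 : (((p ^ d) • χ i₀ + b) - a) x = ((p ^ d : ℕ) : ℂ) * χ i₀ x + b x - a x := by
      simp only [Pi.sub_apply, Pi.add_apply, nsmul_eq_mul]
      rfl
    rw [h3]
    change (if p ∣ orderOf x then ((p ^ d : ℕ) : ℂ) * χ i₀ x else 0) = _
    change (if p ∣ orderOf x then (0 : ℂ) else ((p ^ d : ℕ) : ℂ) * χ i₀ x) = a x - b x at h2
    by_cases hx : p ∣ orderOf x
    · rw [if_pos hx] at h2 ⊢
      linear_combination -h2
    · rw [if_neg hx] at h2 ⊢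
      linear_combination -h2
  -- the inner products
  obtain ⟨a, ha⟩ : ∃ n : ℤ, classInner F (χ i₀) = n :=
    Cfsg.Agent.OddOrderCharacters.PivotCoherence.classInner_isInt hF
      ⟨χ i₀, 0, isIrr_isCharacter (hχ i₀), isCharacter_zero, by rw [sub_zero]⟩
  have hj : ∀ j, classInner F (χ j) = a := by
    intro j
    rw [← ha, Characters.Core.classInner_def, Characters.Core.classInner_def]
    congr 1
    refine Finset.sum_congr rfl fun x _ => ?_
    change (if p ∣ orderOf x then ((p ^ d : ℕ) : ℂ) * χ i₀ x else 0) * _ =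
      (if p ∣ orderOf x then ((p ^ d : ℕ) : ℂ) * χ i₀ x else 0) * _
    by_cases hx : p ∣ orderOf x
    · rw [hres j i₀ x hx]
    · rw [if_neg hx, zero_mul, zero_mul]
  have hFF : classInner F F = (((p ^ d : ℕ) * a : ℤ) : ℂ) := by
    have h0 : classInner F F = ((p ^ d : ℕ) : ℂ) * classInner F (χ i₀) := by
      rw [Characters.Core.classInner_def, Characters.Core.classInner_def, mul_left_comm]
      congr 1
      rw [Finset.mul_sum]
      refine Finset.sum_congr rfl fun x _ => ?_
      change (if p ∣ orderOf x then ((p ^ d : ℕ) : ℂ) * χ i₀ x else 0) *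
        conj (if p ∣ orderOf x then ((p ^ d : ℕ) : ℂ) * χ i₀ x else 0) = ((p ^ d : ℕ) : ℂ) *
        ((if p ∣ orderOf x then ((p ^ d : ℕ) : ℂ) * χ i₀ x else 0) * conj (χ i₀ x))
      by_cases hx : p ∣ orderOf x
      · rw [if_pos hx, map_mul, Complex.conj_natCast]
        ring
      · rw [if_neg hx, zero_mul, zero_mul, mul_zero]
    rw [h0, ha]
    push_cast
    ring
  obtain ⟨m, hm, hsum⟩ := H431.ExcChar.bessel hF hFF χ hχ hinj
  have hm' : ∀ i, m i = a := fun i => by
    have := (hm i).symm.trans (hj i)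
    exact_mod_cast this
  rw [Finset.sum_congr rfl fun i _ => by rw [hm' i], Finset.sum_const, Finset.card_univ, nsmul_eq_mul] at hsum
  have ha0 : a = 0 := by
    by_contra hne
    have h1 : 0 < a ^ 2 := by positivity
    have h2 : (0 : ℤ) ≤ (p ^ d : ℕ) * a := le_trans (by positivity) hsum
    have hp0 : (0 : ℤ) < (p ^ d : ℕ) := by exact_mod_cast pow_pos hp.out.pos d
    have h3 : 0 ≤ a := nonneg_of_mul_nonneg_right h2 hp0
    have h4 : 0 < a := lt_of_le_of_ne h3 (Ne.symm hne)
    have h5 : ((Fintype.card ι : ℤ) * a) * a ≤ ((p ^ d : ℕ) : ℤ) * a := by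
      have : ((Fintype.card ι : ℤ) * a) * a = (Fintype.card ι : ℤ) * a ^ 2 := by ring
      rw [this]; exact hsum
    have h6 := le_of_mul_le_mul_right h5 h4
    have h7 : (Fintype.card ι : ℤ) ≤ (Fintype.card ι : ℤ) * a :=
      le_mul_of_one_le_right (by positivity) (by omega)
    have h8 : (Fintype.card ι : ℤ) ≤ ((p ^ d : ℕ) : ℤ) := h7.trans h6
    have h9 : Fintype.card ι ≤ p ^ d := by exact_mod_cast h8
    omega
  have hF0 : F = 0 := classInner_self_eq_zero (by rw [hFF, ha0]; simp)
  refine Cfsg.Agent.S0928.result p ⟨χ i₀, hχ i₀⟩ fun g hg => ?_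
  have h1 := congrFun hF0 g
  change (if p ∣ orderOf g then ((p ^ d : ℕ) : ℂ) * χ i₀ g else 0) = 0 at h1
  rw [if_pos (by rw [hg]), mul_eq_zero] at h1
  rcases h1 with h1 | h1
  · exact absurd h1 (by exact_mod_cast (pow_pos hp.out.pos d).ne')
  · exact h1

/-- **the form with divisibility** : the family has more than `p ^ a` members, `p ^ b ∣ χ(1)`, `|G|_p ≤ p ^ (a + b)` -/
theorem hasDZ_of_family {p : ℕ} [hp : Fact p.Prime] {G : Type*} [Group G] [Finite G] {ι : Type*} [Fintype ι]
    {χ : ι → G → ℂ} (hχ : ∀ i, IsIrrCharacter G (χ i)) (hinj : Function.Injective χ)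
    (hres : ∀ i j g, p ∣ orderOf g → χ i g = χ j g) (i₀ : ι) {a b : ℕ} (hb : p ^ b ∣ charDegree (χ i₀))
    (hG : ¬ p ^ (a + b + 1) ∣ Nat.card G) (hcard : p ^ a < Fintype.card ι) : HasDZ p G := by
  refine ⟨⟨χ i₀, hχ i₀⟩, family hχ hinj hres i₀ (lt_of_le_of_lt (Nat.pow_le_pow_right hp.out.pos ?_) hcard)⟩
  have hdvd := Cfsg.Agent.H674.Codegree.charDegree_dvd_card (hχ i₀)
  have h0 : charDegree (χ i₀) ≠ 0 := fun h0 => by rw [h0] at hdvd; exact Nat.card_pos.ne' (zero_dvd_iff.1 hdvd)
  have h1 := (hp.out.pow_dvd_iff_le_factorization h0).1 hb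
  have h2 : ¬ a + b + 1 ≤ (Nat.card G).factorization p := fun h =>
    hG ((hp.out.pow_dvd_iff_le_factorization Nat.card_pos.ne').2 h)
  omega

/-- an irreducible character vanishing at the nonidentity elements of a subgroup has degree divisible by its order -/
theorem card_dvd_of_van {G : Type*} [Group G] [Finite G] {χ : G → ℂ} (hχ : IsIrrCharacter G χ) (E : Subgroup G)
    (h : ∀ x ∈ E, x ≠ 1 → χ x = 0) : Nat.card E ∣ charDegree χ := by
  classical
  have := Fintype.ofFinite G
  have : Fintype E := Fintype.ofFinite E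
  obtain ⟨n, hn⟩ := classInner_isNat (isCharacter_comp E.subtype (isIrr_isCharacter hχ)) (isCharacter_one (G := E))
  have h1 := Cfsg.Agent.Blocks.Basic.irr_one_eq_charDegree hχ
  refine ⟨n, ?_⟩
  rw [Characters.Core.classInner_def, Finset.sum_eq_single (1 : E)] at hn
  · have h2 : (χ ∘ E.subtype) 1 = χ 1 := rfl
    rw [h2, h1, Pi.one_apply, map_one, mul_one] at hn
    have h3 : (Nat.card E : ℂ) ≠ 0 := card_ne_zero_complex
    have h4 : (charDegree χ : ℂ) = Nat.card E * n := by rw [← hn]; field_simp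
    exact_mod_cast h4
  · intro x _ hx
    have h2 : (χ ∘ E.subtype) x = 0 := h x x.2 fun h0 => hx (Subtype.ext h0)
    rw [h2, zero_mul]
  · intro h; exact absurd (Finset.mem_univ _) h

end Cfsg.Agent.R2.DZ
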